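import Groth.Agent.L24.TorusLift.CentralTorus
import Groth.Agent.L08.Borel.SigmaSub
import Groth.Agent.L08.Borel.RedRankTorus
import Groth.Agent.L08.Borel.DimTorus
import Groth.Agent.L08.Borel.CartanTors
import Groth.Agent.S8387
import Groth.Agent.L25.GrpBasics
import Mathlib.RingTheory.Artinian.Module
import Mathlib.AlgebraicGeometry.Limits

/-!
# The largest central torus of a smooth group with connected fibres over an Artinian ring
-/

set_option autoImplicit false
set_option backward.isDefEq.respectTransparency false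
set_option backward.isDefEq.respectTransparency.types false
set_option linter.style.haveILetI false

universe u

open CategoryTheory CategoryTheory.Limits MonoidalCategory CartesianMonoidalCategory MonObj GrpObj AlgebraicGeometry
open Groth.L25.TorLift (bi red)

noncomputable section

namespace Groth.L24.TorusLift

variable {S V : Scheme.{u}}

/-- `q` is central -/
def IsCentralMor {H Q : Over S} [GrpObj H] (q : Q ⟶ H) : Prop :=
  ∀ (X : Over S) (x : X ⟶ Q) (g : X ⟶ H), (x ≫ q) * g = g * (x ≫ q)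

theorem IsCentralMor.comp_iso {H H' Q : Over S} [GrpObj H] [GrpObj H'] {q : Q ⟶ H} (hc : IsCentralMor q)
    (φ : H ≅ H') [IsMonHom φ.hom] : IsCentralMor (q ≫ φ.hom) := by
  intro X x g
  rw [show g = (g ≫ φ.inv) ≫ φ.hom by rw [Category.assoc, φ.inv_hom_id, Category.comp_id], ← Category.assoc,
    ← MonObj.mul_comp, ← MonObj.mul_comp, hc]

theorem IsCentralMor.bc {H Q : Over S} [GrpObj H] {q : Q ⟶ H} (hc : IsCentralMor q) (p : V ⟶ S) :
    IsCentralMor ((Over.pullback p).map q) := by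
  intro X x g
  apply Groth.L25.CentralLift.toBase_injective
  rw [Groth.L25.NilAction.toBase_mul, Groth.L25.NilAction.toBase_mul, Groth.L25.Locus.toBase_map]
  exact hc _ _ _

/-- the central subtori of the fibre at `θ` factor through `q` -/
def GeomFac {H Q : Over S} [GrpObj H] (q : Q ⟶ H) {L : Type u} [Field L]
    (θ : Spec (CommRingCat.of L) ⟶ S) : Prop :=
  ∀ (R : Over (Spec (CommRingCat.of L))) [GrpObj R] (v : R ⟶ Red.bc θ H) [IsMonHom v] [Mono v],
    Red.IsTorus R → IsCentralMor v → ∃ f : R ⟶ (Over.pullback θ).obj Q, f ≫ (Over.pullback θ).map q = v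

variable {L : Type u} [Field L] {θ : Spec (CommRingCat.of L) ⟶ S}

theorem GeomFac.mono {H Q Q' : Over S} [GrpObj H] {q : Q ⟶ H} (h : GeomFac q θ) (q' : Q' ⟶ H) (w : Q ⟶ Q')
    (hw : w ≫ q' = q) : GeomFac q' θ := by
  intro R _ v _ _ hR hc
  obtain ⟨f, hf⟩ := h R v hR hc
  exact ⟨f ≫ (Over.pullback θ).map w, by rw [Category.assoc, ← Functor.map_comp, hw, hf]⟩

theorem GeomFac.comp_iso {H H' Q : Over S} [GrpObj H] [GrpObj H'] {q : Q ⟶ H} (h : GeomFac q θ) (φ : H ≅ H')
    [IsMonHom φ.hom] : GeomFac (q ≫ φ.hom) θ := by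
  intro R _ v _ _ hR hc
  haveI : IsMonHom φ.inv := inferInstance
  let ψ := (Over.pullback θ).mapIso φ
  haveI : IsMonHom ψ.hom := Groth.L25.MonoClosed.isMonHom_pullbackMap _ _
  haveI : IsMonHom ψ.symm.hom := Groth.L25.MonoClosed.isMonHom_pullbackMap _ φ.inv
  haveI : IsMonHom (v ≫ ψ.symm.hom) := inferInstance
  haveI : Mono (v ≫ ψ.symm.hom) := mono_comp _ _
  obtain ⟨f, hf⟩ := h R (v ≫ ψ.symm.hom) hR (hc.comp_iso ψ.symm)
  refine ⟨f, ?_⟩
  rw [Functor.map_comp, reassoc_of% hf]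
  exact by simp [ψ]

theorem bcCompIso_naturality {p : V ⟶ S} {L : Type u} [Field L] (θ : Spec (CommRingCat.of L) ⟶ V)
    {θ' : Spec (CommRingCat.of L) ⟶ S} (hθ : θ ≫ p = θ') {X Y : Over S} (f : X ⟶ Y) :
    (Over.pullback θ).map ((Over.pullback p).map f) ≫ (ActBC.bcCompIso θ p Y hθ).hom =
      (ActBC.bcCompIso θ p X hθ).hom ≫ (Over.pullback θ').map f := by
  apply Over.OverMorphism.ext
  apply pullback.hom_ext
  · simp [Over.pullback]
  · simp [Over.pullback]

theorem GeomFac.of_bc {p : V ⟶ S} {H Q : Over S} [GrpObj H] {q : Q ⟶ H} {θ₀ : Spec (CommRingCat.of L) ⟶ V}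
    (hθ : θ₀ ≫ p = θ) (h : GeomFac ((Over.pullback p).map q) θ₀) : GeomFac q θ := by
  intro R _ v _ _ hR hc
  let φ := ActBC.bcCompIso θ₀ p H hθ
  haveI : IsMonHom φ.symm.hom := inferInstanceAs (IsMonHom φ.inv)
  haveI : IsMonHom (v ≫ φ.symm.hom) := inferInstance
  haveI : Mono (v ≫ φ.symm.hom) := mono_comp _ _
  obtain ⟨f, hf⟩ := h R (v ≫ φ.symm.hom) hR (hc.comp_iso φ.symm)
  refine ⟨f ≫ (ActBC.bcCompIso θ₀ p Q hθ).hom, ?_⟩
  rw [Category.assoc, ← bcCompIso_naturality, reassoc_of% hf]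
  simp [φ]

theorem GeomFac.bc {p : V ⟶ S} {H Q : Over S} [GrpObj H] {q : Q ⟶ H} {θ₀ : Spec (CommRingCat.of L) ⟶ V}
    (hθ : θ₀ ≫ p = θ) (h : GeomFac q θ) : GeomFac ((Over.pullback p).map q) θ₀ := by
  intro R _ v _ _ hR hc
  let φ := ActBC.bcCompIso θ₀ p H hθ
  haveI : IsMonHom (v ≫ φ.hom) := inferInstance
  haveI : Mono (v ≫ φ.hom) := mono_comp _ _
  obtain ⟨f, hf⟩ := h R (v ≫ φ.hom) hR (hc.comp_iso φ)
  refine ⟨f ≫ (ActBC.bcCompIso θ₀ p Q hθ).inv, ?_⟩
  rw [← cancel_mono φ.hom, Category.assoc, Category.assoc, bcCompIso_naturality, Iso.inv_hom_id_assoc, hf]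

theorem connectedSpace_of_irrFib {k : Type u} [Field k] {X : Over (Spec (CommRingCat.of k))}
    (h : Groth.L02.SchDom.IrrFib X.hom) : ConnectedSpace X.left := by
  let θ := Spec.map (CommRingCat.ofHom (algebraMap k (AlgebraicClosure k)))
  haveI := h (AlgebraicClosure k) θ
  haveI : Surjective θ := (Groth.L08.Borel.bc_props_field θ).1
  haveI : Surjective (pullback.fst X.hom θ) := MorphismProperty.pullback_fst _ _ ‹_›
  exact (pullback.fst X.hom θ).surjective.connectedSpace (pullback.fst X.hom θ).continuous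

/-- a subgroup of a disjoint union of field spectra which is a torus on each summand is a torus -/
theorem isTorus_sigma {κ : Type u} [Finite κ] {K : κ → Type u} [∀ m, Field (K m)]
    {D : Over (∐ fun m => Spec (CommRingCat.of (K m)))} [GrpObj D]
    (h : ∀ m, Red.IsTorus (Red.bc (Sigma.ι (fun m => Spec (CommRingCat.of (K m))) m) D)) : Red.IsTorus D := by
  let P : κ → Scheme.{u} := fun m => Spec (CommRingCat.of (AlgebraicClosure (K m)))
  let c : ∀ m, P m ⟶ Spec (CommRingCat.of (K m)) := fun m =>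
    Spec.map (CommRingCat.ofHom (algebraMap (K m) (AlgebraicClosure (K m))))
  let π := Limits.Sigma.map c
  haveI : Flat π := Groth.L20.SchDesc.sigmaMap_of @Flat _ fun m => (Groth.L08.Borel.bc_props_field (c m)).2.1
  haveI : Surjective π := Groth.L20.SchDesc.sigmaMap_of @Surjective _ fun m => (Groth.L08.Borel.bc_props_field (c m)).1
  haveI : ∀ m, Finite ↥(P m) := fun m => inferInstanceAs (Finite (PrimeSpectrum (AlgebraicClosure (K m))))
  haveI : Finite ↥(∐ P) := Finite.of_surjective (fun z : Σ m, ↥(P m) => Sigma.ι P z.1 z.2) fun w => by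
    obtain ⟨m, y, hy⟩ := (sigmaOpenCover P).exists_eq w
    exact ⟨⟨m, y⟩, hy⟩
  refine Groth.L08.Borel.isTorus_descend π (fun W hW => ⟨π ⁻¹ᵁ W, (Set.toFinite _).isCompact,
    Set.image_preimage_eq _ π.surjective⟩) ?_
  refine Groth.L08.Borel.isTorus_of_openCover fun w => ?_
  obtain ⟨m, y, rfl⟩ := (sigmaOpenCover P).exists_eq w
  obtain ⟨r, hr⟩ := Groth.L08.Borel.exists_split_rank (Groth.L25.Locus.isTorus_bc (h m) (c m))
  refine ⟨P m, Sigma.ι P m, inferInstance, ⟨y, rfl⟩, r, ?_⟩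
  have hσ : c m ≫ Sigma.ι (fun m => Spec (CommRingCat.of (K m))) m = Sigma.ι P m ≫ π := (Sigma.ι_map c m).symm
  let e₁ := ActBC.bcCompIso (c m) (Sigma.ι (fun m => Spec (CommRingCat.of (K m))) m) D hσ
  let e₂ := ActBC.bcCompIso (Sigma.ι P m) π D rfl
  haveI : IsMonHom e₂.symm.hom := inferInstanceAs (IsMonHom e₂.inv)
  exact Groth.L08.Borel.isSplit_iso e₂.symm (Groth.L08.Borel.isSplit_iso e₁ hr)

variable {A : Type u} [CommRing A] [IsArtinianRing A]

set_option maxHeartbeats 800000 in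
/-- a smooth group with connected fibres over an Artinian ring has a central torus which is the largest on each
geometric fibre -/
theorem exists_central_torus_artinian (H : Over (Spec (CommRingCat.of A))) [GrpObj H] [Smooth H.hom]
    [QuasiCompact H.hom] [QuasiSeparated H.hom] (hirr : Groth.L02.SchDom.IrrFib H.hom) :
    ∃ (T : Over (Spec (CommRingCat.of A))) (_ : GrpObj T) (t : T ⟶ H), IsMonHom t ∧ Mono t ∧ Red.IsTorus T ∧
      IsCentralMor t ∧ GeomCentralMax t := by
  let J : Ideal A := nilradical A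
  let K : MaximalSpectrum A → Type u := fun m => A ⧸ m.asIdeal
  letI : ∀ m, Field (K m) := fun m => haveI := m.isMaximal; Ideal.Quotient.field m.asIdeal
  let R : MaximalSpectrum A → CommRingCat.{u} := fun m => CommRingCat.of (K m)
  let P : MaximalSpectrum A → Scheme.{u} := fun m => Spec (R m)
  let e : A ⧸ J ≃+* ∀ m, A ⧸ (MaximalSpectrum.asIdeal (R := A) m) := (IsArtinianRing.quotNilradicalEquivPi A).toRingEquiv
  let ec : CommRingCat.of (A ⧸ J) ⟶ CommRingCat.of (∀ m, R m) := CommRingCat.ofHom e.toRingHom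
  haveI : IsIso ec := ⟨CommRingCat.ofHom e.symm.toRingHom, by ext x; exact e.symm_apply_apply x,
    by ext x; exact congrFun (e.apply_symm_apply x) _⟩
  let ε : (∐ P) ⟶ Spec (CommRingCat.of (A ⧸ J)) := sigmaSpec R ≫ Spec.map ec
  haveI : IsIso ε := inferInstance
  let HB := Red.bc (bi J) H
  let Hσ := Red.bc ε HB
  haveI : Smooth HB.hom := inferInstanceAs (Smooth (pullback.snd H.hom (bi J)))
  haveI : QuasiCompact HB.hom := inferInstanceAs (QuasiCompact (pullback.snd H.hom (bi J)))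
  haveI : Smooth Hσ.hom := inferInstanceAs (Smooth (pullback.snd HB.hom ε))
  haveI : QuasiCompact Hσ.hom := inferInstanceAs (QuasiCompact (pullback.snd HB.hom ε))
  have hex : ∀ m, ∃ (Q : Over (Spec (CommRingCat.of (K m)))) (_ : GrpObj Q) (q : Q ⟶ Red.bc (Sigma.ι P m) Hσ),
      IsMonHom q ∧ Mono q ∧ Red.IsTorus Q ∧ IsCentralMor q ∧ GeomCentralMax q := fun m => by
    haveI : Smooth (Red.bc (Sigma.ι P m) Hσ).hom := inferInstanceAs (Smooth (pullback.snd Hσ.hom (Sigma.ι P m)))
    haveI : QuasiCompact (Red.bc (Sigma.ι P m) Hσ).hom :=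
      inferInstanceAs (QuasiCompact (pullback.snd Hσ.hom (Sigma.ι P m)))
    haveI : ConnectedSpace (Red.bc (Sigma.ι P m) Hσ).left := connectedSpace_of_irrFib
      (Groth.L08.Borel.irrFib_bc (Sigma.ι P m) (Groth.L08.Borel.irrFib_bc ε (Groth.L08.Borel.irrFib_bc (bi J) hirr)))
    obtain ⟨Q, gQ, q, h1, h2, h3, h4, h5⟩ := exists_central_torus (Red.bc (Sigma.ι P m) Hσ)
    exact ⟨Q, gQ, q, h1, h2, h3, h4, h5⟩
  choose Q gQ q hq hqm hQt hqc hqg using hex
  obtain ⟨D, gD, d, hd, hdm, -, hiso⟩ := Groth.L08.Borel.exists_subgroup_sigma (V := P) Hσ Q q hq hqm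
  haveI := hd; haveI := hdm
  choose iD hiD hiD' using hiso
  have hDt : Red.IsTorus D := isTorus_sigma (K := K) fun m => by
    haveI := hiD m
    haveI : IsMonHom (iD m).symm.hom := inferInstanceAs (IsMonHom (iD m).inv)
    exact Groth.L25.TorLift.isTorus_of_iso (Grp.mkIso' (iD m).symm) (hQt m)
  have hdc : IsCentralMor d := by
    intro X x g
    refine Groth.L08.Borel.hom_ext_sigma (V := P) _ _ fun m => ?_
    rw [Functor.map_mul, Functor.map_mul, Functor.map_comp, ← hiD' m, ← Category.assoc]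
    exact hqc m _ _ _
  let DB := Red.bc (inv ε) D
  let φG : Grp.mk (Red.bc (inv ε) Hσ) ≅ Grp.mk HB :=
    Grp.mkIso' (ActBC.bcCompIso (inv ε) ε HB (IsIso.inv_hom_id ε)) ≪≫
      (Functor.mapGrpNatIso (Over.pullbackId (X := Spec (CommRingCat.of (A ⧸ J))))).app (Grp.mk HB)
  let φ : Red.bc (inv ε) Hσ ≅ HB := (Grp.forget _).mapIso φG
  haveI : IsMonHom φ.hom := φG.hom.hom.isMonHom_hom
  haveI : IsMonHom ((Over.pullback (inv ε)).map d) := Groth.L25.MonoClosed.isMonHom_pullbackMap _ _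
  haveI : Mono ((Over.pullback (inv ε)).map d) := Functor.map_mono _ _
  let dB : DB ⟶ HB := (Over.pullback (inv ε)).map d ≫ φ.hom
  haveI : IsMonHom dB := inferInstanceAs (IsMonHom (_ ≫ _))
  haveI : Mono dB := mono_comp _ _
  have hdBc : IsCentralMor dB := (hdc.bc (inv ε)).comp_iso φ
  have hnil : ∀ x ∈ J, IsNilpotent x := fun x hx => mem_nilradical.1 hx
  obtain ⟨T, gT, t, ht, htm, hT, ⟨eT, heT⟩, htc, -⟩ := Groth.Agent.S8387.result A J (IsNoetherian.noetherian J) hnil H
    DB dB (Groth.L25.Locus.isTorus_bc hDt (inv ε)) hdBc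
  refine ⟨T, gT, t, ht, htm, hT, htc, fun L _ _ θ => ?_⟩
  obtain ⟨ψ, hψ⟩ := Spec.map_surjective θ
  have hker : ∀ a ∈ J, ψ.hom a = 0 := fun a ha => ((hnil a ha).map ψ.hom).eq_zero
  let θ₁ : Spec (CommRingCat.of L) ⟶ Spec (CommRingCat.of (A ⧸ J)) :=
    Spec.map (CommRingCat.ofHom (Ideal.Quotient.lift J ψ.hom hker))
  have hθ₁ : θ₁ ≫ bi J = θ := by
    rw [← hψ, ← Spec.map_comp]
    rfl
  let θ₂ := θ₁ ≫ inv ε
  obtain ⟨m, y, hy⟩ := (sigmaOpenCover P).exists_eq (θ₂ (IsLocalRing.closedPoint L))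
  have hr : Set.range θ₂ ⊆ Set.range (Sigma.ι P m) := by
    rintro _ ⟨z, rfl⟩
    rw [Subsingleton.elim (α := PrimeSpectrum L) z (IsLocalRing.closedPoint L)]
    exact ⟨y, hy⟩
  let θ₃ := IsOpenImmersion.lift (Sigma.ι P m) θ₂ hr
  have h3 : GeomFac ((Over.pullback (Sigma.ι P m)).map d) θ₃ :=
    GeomFac.mono (hqg m L θ₃) _ (iD m).inv (by rw [← hiD' m, Iso.inv_hom_id_assoc])
  have h2 : GeomFac d θ₂ := GeomFac.of_bc (IsOpenImmersion.lift_fac _ _ hr) h3
  have h1 : GeomFac dB θ₁ := (GeomFac.bc rfl h2).comp_iso φ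
  exact GeomFac.of_bc hθ₁ (h1.mono _ eT.inv (by rw [← heT, Iso.inv_hom_id_assoc]))

/-- group schemes of finite type over Artinian rings are separated -/
theorem isSeparated_artinian' (G : Over (Spec (CommRingCat.of A))) [GrpObj G] [LocallyOfFiniteType G.hom] :
    IsSeparated G.hom := by
  let e : Spec (CommRingCat.of A) ⟶ G.left := η[G].left
  haveI : IsImmersion e := by
    haveI : IsImmersion (η[G].left ≫ G.hom) := by
      rw [Over.w η[G]]; exact (inferInstanceAs (IsImmersion (𝟙 (Spec (CommRingCat.of A)))))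
    exact IsImmersion.of_comp η[G].left G.hom
  haveI : JacobsonSpace ↥(Spec (CommRingCat.of A)) := inferInstanceAs (JacobsonSpace (PrimeSpectrum A))
  haveI : JacobsonSpace G.left := LocallyOfFiniteType.jacobsonSpace G.hom
  haveI : Finite ↥(Spec (CommRingCat.of A)) := inferInstanceAs (Finite (PrimeSpectrum A))
  have he : ∀ s, IsClosed ({e s} : Set G.left) := fun s => by
    refine isClosed_singleton_of_isLocallyClosed_singleton ?_
    have hs : ({e s} : Set G.left) = Set.range e ∩ G.hom ⁻¹' {s} := by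
      refine Set.Subset.antisymm (Set.singleton_subset_iff.2 ⟨⟨s, rfl⟩, congr(($(Over.w η[G])) s)⟩) ?_
      rintro _ ⟨⟨t, rfl⟩, ht⟩
      have h : t = s := (congr(($(Over.w η[G])) t)).symm.trans ht
      rw [h]
      rfl
    rw [hs]
    exact e.isLocallyClosed_range.inter ((isClosed_singleton).preimage G.hom.continuous).isLocallyClosed
  haveI : IsClosedImmersion η[G].left := by
    refine IsClosedImmersion.of_isPreimmersion e ?_
    rw [← Set.iUnion_singleton_eq_range]
    exact isClosed_iUnion_of_finite he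
  exact ⟨Groth.L25.GrpBasics.diagonal_of_unit @IsClosedImmersion G this⟩

end Groth.L24.TorusLift
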