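import Groth.Agent.L24.TorusLift.Field
import Groth.Agent.L02.SchDom.MonoApps
import Groth.Agent.L25.MultSub.Main
import Groth.Agent.L08.Borel.CartanNhd
import Groth.Agent.L08.Borel.CentBorel
import Groth.Agent.L08.Borel.MaxTorusNonsmooth
import Groth.Agent.S4148
import Groth.Agent.L25.Central

/-!
# The largest central torus of a smooth connected group over a field
-/

set_option autoImplicit false
set_option backward.isDefEq.respectTransparency false
set_option backward.isDefEq.respectTransparency.types false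
set_option linter.style.haveILetI false

universe u

open CategoryTheory CategoryTheory.Limits MonoidalCategory CartesianMonoidalCategory MonObj GrpObj AlgebraicGeometry

noncomputable section

namespace Groth.L24.TorusLift

/-- all central subtori of all geometric fibres factor through `q` -/
def GeomCentralMax {S : Scheme.{u}} {H Q : Over S} [GrpObj H] (q : Q ⟶ H) : Prop :=
  ∀ (L : Type u) [Field L] [IsAlgClosed L] (θ : Spec (CommRingCat.of L) ⟶ S)
    (R : Over (Spec (CommRingCat.of L))) [GrpObj R] (u : R ⟶ Red.bc θ H) [IsMonHom u] [Mono u],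
    Red.IsTorus R →
    (∀ (X : Over (Spec (CommRingCat.of L))) (x : X ⟶ R) (g : X ⟶ Red.bc θ H), (x ≫ u) * g = g * (x ≫ u)) →
    ∃ f : R ⟶ (Over.pullback θ).obj Q, f ≫ (Over.pullback θ).map q = u

variable {k : Type u} [Field k]

/-- a smooth connected group over a field has a largest central torus -/
theorem exists_central_torus (H : Over (Spec (CommRingCat.of k))) [GrpObj H] [Smooth H.hom] [QuasiCompact H.hom]
    [ConnectedSpace H.left] :
    ∃ (Q : Over (Spec (CommRingCat.of k))) (_ : GrpObj Q) (q : Q ⟶ H), IsMonHom q ∧ Mono q ∧ Red.IsTorus Q ∧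
      (∀ (X : Over (Spec (CommRingCat.of k))) (x : X ⟶ Q) (g : X ⟶ H), (x ≫ q) * g = g * (x ≫ q)) ∧
      GeomCentralMax q := by
  haveI : LocallyOfFiniteType H.hom := inferInstance
  obtain ⟨T₀, gT₀, i₀, hT₀⟩ := Groth.L24.TorusField.exists_maximalTorus H
  haveI := hT₀.1; haveI := hT₀.2.1
  have hirr : Groth.L02.SchDom.IrrFib H.hom := Groth.L08.Borel.irrFib_of_isConnected H fun s => by
    rw [Set.eq_univ_of_forall (s := H.hom.base ⁻¹' {s}) fun x => Subsingleton.elim (α := PrimeSpectrum k) _ _]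
    exact isConnected_univ
  obtain ⟨Z, z, hzc, hzp, hz⟩ := Groth.L02.SchDom.exists_centralizer hirr (𝟙 H)
  haveI := hzc; haveI := hzp
  haveI : Mono z := Over.mono_of_mono_left z
  let Fc : ∀ Y : Over (Spec (CommRingCat.of k)), (Y ⟶ H) → Prop := fun Y g =>
    ∀ (Y' : Over (Spec (CommRingCat.of k))) (y : Y' ⟶ Y) (h : Y' ⟶ H), (y ≫ g) * h = h * (y ≫ g)
  have hFc : ∀ (Y : Over (Spec (CommRingCat.of k))) (g : Y ⟶ H), (∃ w, w ≫ z = g) ↔ Fc Y g := fun Y g => by
    rw [hz]
    simp only [Category.comp_id, Fc]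
  obtain ⟨gZ, hzh⟩ := Groth.L25.Locus.exists_subgroup z Fc hFc
    (fun Y' y h => by rw [MonObj.comp_one, _root_.one_mul, _root_.mul_one])
    (fun Y a b ha hb Y' y h => by
      rw [MonObj.comp_mul, _root_.mul_assoc, hb Y' y h, ← _root_.mul_assoc, ha Y' y h, _root_.mul_assoc])
    (fun Y a ha Y' y h => by
      rw [GrpObj.comp_inv]
      exact (Commute.inv_left (ha Y' y h)).eq)
  letI := gZ
  haveI := hzh
  let M := Limits.pullback z i₀
  let m : M ⟶ T₀ := pullback.snd z i₀
  haveI : Mono m := inferInstanceAs (Mono (pullback.snd z i₀))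
  obtain ⟨gM, hm⟩ := Groth.L25.Locus.exists_subgroup m (fun Y x => ∃ w, w ≫ z = x ≫ i₀)
    (fun Y x => ⟨fun ⟨w, hw⟩ => ⟨w ≫ pullback.fst z i₀, by rw [Category.assoc, pullback.condition, ← hw, Category.assoc]⟩,
      fun ⟨w, hw⟩ => ⟨pullback.lift w x hw, pullback.lift_snd _ _ _⟩⟩)
    ⟨1, by rw [MonObj.one_comp, MonObj.one_comp]⟩
    (fun Y a b ⟨wa, ha⟩ ⟨wb, hb⟩ => ⟨wa * wb, by rw [MonObj.mul_comp, MonObj.mul_comp, ha, hb]⟩)
    (fun Y a ⟨wa, ha⟩ => ⟨wa⁻¹, by rw [GrpObj.inv_comp, GrpObj.inv_comp, ha]⟩)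
  letI := gM
  haveI := hm
  haveI : IsMonHom (pullback.fst z i₀) := Groth.L08.Borel.isMonHom_lift_mono z (m ≫ i₀) _ pullback.condition
  haveI : IsClosedImmersion m.left := MorphismProperty.of_isPullback
    ((IsPullback.of_hasPullback z i₀).map (Over.forget _)) hzc
  haveI := Groth.L25.Central.isAffineHom_of_multTypeFT (Groth.L25.Locus.isMultTypeFT_of_isTorus hT₀.2.2.1)
  haveI := Groth.L25.TrivLocus.lft_of_multTypeFT (Groth.L25.Locus.isMultTypeFT_of_isTorus hT₀.2.2.1)
  haveI : LocallyOfFiniteType M.hom := by rw [← Over.w m]; infer_instance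
  haveI : LocallyOfFinitePresentation M.hom := inferInstance
  have hM : SGA3x.IsMultTypeFT M := Groth.L25.MultSub.isMultTypeFT_of_closed M T₀
    (Groth.L25.Locus.isMultTypeFT_of_isTorus hT₀.2.2.1) m inferInstance inferInstance inferInstance
  obtain ⟨Q, gQ, iQ, hQ, hQmax⟩ := Groth.Agent.S4148.result _ M hM
  haveI := hQ.1; haveI := hQ.2.1
  let q : Q ⟶ H := iQ ≫ pullback.fst z i₀ ≫ z
  haveI : Mono (pullback.fst z i₀) := inferInstance
  refine ⟨Q, gQ, q, inferInstance, mono_comp _ _, hQ.2.2.1, fun X x g => ?_, ?_⟩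
  · have h := (hFc X (x ≫ q)).1 ⟨x ≫ iQ ≫ pullback.fst z i₀, by simp only [q, Category.assoc]⟩ X (𝟙 X) g
    rwa [Category.id_comp] at h
  intro L _ _ θ R _ u _ _ hR hc
  let F := Over.pullback θ
  haveI : Smooth (Red.bc θ H).hom := inferInstanceAs (Smooth (pullback.snd H.hom θ))
  haveI : QuasiCompact (Red.bc θ H).hom := inferInstanceAs (QuasiCompact (pullback.snd H.hom θ))
  haveI : IsMonHom (F.map i₀) := Groth.L25.MonoClosed.isMonHom_pullbackMap _ _
  haveI : IsMonHom (F.map m) := Groth.L25.MonoClosed.isMonHom_pullbackMap _ _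
  haveI : IsMonHom (F.map (pullback.fst z i₀)) := Groth.L25.MonoClosed.isMonHom_pullbackMap _ _
  haveI : IsMonHom (F.map iQ) := Groth.L25.MonoClosed.isMonHom_pullbackMap _ _
  haveI : Mono (F.map i₀) := Functor.map_mono _ _
  haveI : Mono (F.map m) := Functor.map_mono _ _
  haveI : Mono (F.map iQ) := Functor.map_mono _ _
  obtain ⟨f, hf⟩ := exists_factor_of_central_algClosed u hR hc
    (Groth.L08.Borel.isMaxTorus_of_isMaximalTorus (Groth.L08.Borel.isMaximalTorus_bc hT₀ θ))
  have hzcent : Red.IsCentralizerOf (𝟙 H) z := ⟨hzh, inferInstance, fun Y g => hz Y g⟩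
  obtain ⟨w, hw⟩ := ((Groth.L08.Borel.isCentralizerOf_bc θ hzcent).2.2 R u).2 fun X' x h => by
    rw [CategoryTheory.Functor.map_id, Category.comp_id]
    exact hc X' x h
  let v : R ⟶ F.obj M := pullback.lift w f (hw.trans hf.symm) ≫ (PreservesPullback.iso F z i₀).inv
  have hv₁ : v ≫ F.map m = f := by
    simp only [v, m, Category.assoc, PreservesPullback.iso_inv_snd]; exact pullback.lift_snd _ _ _
  have hv₂ : v ≫ F.map (pullback.fst z i₀) = w := by
    simp only [v, Category.assoc, PreservesPullback.iso_inv_fst]; exact pullback.lift_fst _ _ _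
  haveI : IsMonHom f := Groth.L08.Borel.isMonHom_lift_mono (F.map i₀) u f hf
  haveI : IsMonHom v := Groth.L08.Borel.isMonHom_lift_mono (F.map m) f v hv₁
  haveI : Mono f := mono_of_mono_fac hf
  haveI : Mono v := mono_of_mono_fac hv₁
  haveI : LocallyOfFiniteType M.hom := inferInstance
  haveI : QuasiCompact M.hom := by
    haveI := Groth.L25.Central.isAffineHom_of_multTypeFT hM
    infer_instance
  have hQL := Groth.L08.Borel.isMaxTorus_of_isMaximalTorus (Groth.L08.Borel.isMaximalTorus_bc_fp hQ θ)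
  obtain ⟨T₁, gT₁, i₁, hT₁, hmax₁⟩ := Groth.Agent.S4148.result _ (Red.bc θ M)
    (Groth.L25.MultTypeBC.isMultTypeFT_bc hM θ)
  haveI := hT₁.1; haveI := hT₁.2.1
  obtain ⟨a, ha⟩ := hmax₁ R v hR
  obtain ⟨b, hb⟩ := hmax₁ (F.obj Q) (F.map iQ) (Groth.L25.Locus.isTorus_bc hQ.2.2.1 θ)
  haveI : IsIso b := hQL.2.2.2 T₁ i₁ b hT₁.2.2.1 hb
  refine ⟨a ≫ inv b, ?_⟩
  rw [show q = iQ ≫ pullback.fst z i₀ ≫ z from rfl, Functor.map_comp, Functor.map_comp, Category.assoc,
    ← hb, Category.assoc, IsIso.inv_hom_id_assoc, reassoc_of% ha, reassoc_of% hv₂]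
  exact hw

end Groth.L24.TorusLift
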