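import Groth.Agent.L24.TorusField.NonAffine
import Groth.Agent.L08.Borel.MaxToriConj
import Groth.Agent.L08.Borel.MaxTorusDesc
import Groth.Agent.L08.Borel.IsoBase

/-!
# Central subtori lie in every maximal torus
-/

set_option autoImplicit false
set_option backward.isDefEq.respectTransparency false
set_option backward.isDefEq.respectTransparency.types false
set_option linter.style.haveILetI false

universe u

open CategoryTheory CategoryTheory.Limits MonoidalCategory CartesianMonoidalCategory MonObj GrpObj AlgebraicGeometry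

noncomputable section

namespace Groth.L24.TorusLift

open Groth.L24.TorusField (isIso_of_dim_le exists_dim_torus dim_le_of_mono exists_greatest_nat bc_map_injective)

variable {k : Type u} [Field k]

/-- every subtorus lies in a maximal subtorus -/
theorem exists_isMaxTorus_containing [IsAlgClosed k] {G R : Over (Spec (CommRingCat.of k))} [GrpObj G] [GrpObj R]
    [LocallyOfFiniteType G.hom] [QuasiCompact G.hom] (u : R ⟶ G) [IsMonHom u] [Mono u] (hR : Red.IsTorus R) :
    ∃ (T : Over (Spec (CommRingCat.of k))) (_ : GrpObj T) (i : T ⟶ G) (f : R ⟶ T), AGF.IsMaxTorus i ∧ f ≫ i = u := by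
  let P : ℕ → Prop := fun n => ∃ (T : Over (Spec (CommRingCat.of k))) (_ : GrpObj T) (i : T ⟶ G) (f : R ⟶ T),
    IsMonHom i ∧ Mono i ∧ Red.IsTorus T ∧ f ≫ i = u ∧ topologicalKrullDim T.left = (n : WithBot ℕ∞)
  obtain ⟨N, -, hN⟩ := Groth.L08.GrpDim.exists_dim (G := G)
  have hbound : ∀ n, P n → n ≤ N := by
    rintro n ⟨T, gT, i, f, h1, h2, hT, -, hn⟩
    haveI := h1; haveI := h2
    have h := dim_le_of_mono i hT
    rw [hn, hN] at h
    exact_mod_cast h
  obtain ⟨n₀, hn₀⟩ := exists_dim_torus hR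
  obtain ⟨n₁, hn₁, hmax⟩ := exists_greatest_nat N hbound
    (⟨R, inferInstance, u, 𝟙 R, inferInstance, inferInstance, hR, Category.id_comp u, hn₀⟩ : P n₀)
  obtain ⟨T, gT, i, f, h1, h2, hT, hfi, hn⟩ := hn₁
  haveI := h1; haveI := h2
  refine ⟨T, gT, i, f, ⟨h1, h2, hT, fun T' gT' j hj hjm g hT' hg => ?_⟩, hfi⟩
  haveI := hj; haveI := hjm
  haveI : Mono g := mono_of_mono_fac hg
  haveI : IsMonHom g := Groth.L08.Borel.isMonHom_of_comp_mono g j i hg
  obtain ⟨m, hm⟩ := exists_dim_torus hT'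
  exact isIso_of_dim_le g hT hT' hn hm
    (hmax m ⟨T', gT', j, f ≫ g, hj, hjm, hT', by rw [Category.assoc, hg, hfi], hm⟩)

/-- a central subtorus lies in every maximal torus, over an algebraically closed field -/
theorem exists_factor_of_central_algClosed [IsAlgClosed k] {G R T : Over (Spec (CommRingCat.of k))} [GrpObj G]
    [GrpObj R] [GrpObj T] [Smooth G.hom] [QuasiCompact G.hom] (u : R ⟶ G) [IsMonHom u] [Mono u]
    (hR : Red.IsTorus R)
    (hc : ∀ (X : Over (Spec (CommRingCat.of k))) (x : X ⟶ R) (g : X ⟶ G), (x ≫ u) * g = g * (x ≫ u))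
    {i : T ⟶ G} (hT : AGF.IsMaxTorus i) : ∃ f : R ⟶ T, f ≫ i = u := by
  haveI : LocallyOfFiniteType G.hom := inferInstance
  obtain ⟨T₁, g₁, i₁, f₁, h₁, hf₁⟩ := exists_isMaxTorus_containing u hR
  obtain ⟨g, e, he⟩ := Groth.L08.Borel.exists_maxTorus_conj_any h₁ hT
  refine ⟨f₁ ≫ e.hom, ?_⟩
  rw [Category.assoc, he, MonObj.comp_mul, MonObj.comp_mul, GrpObj.comp_inv, hf₁, ← Category.assoc,
    toUnit_unique (f₁ ≫ toUnit T₁) (toUnit R)]
  have e1 := hc R (𝟙 R) (toUnit R ≫ g)
  rw [Category.id_comp] at e1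
  rw [← e1, mul_inv_cancel_right]

/-- a central subtorus lies in every maximal torus -/
theorem exists_factor_of_central {G R T : Over (Spec (CommRingCat.of k))} [GrpObj G]
    [GrpObj R] [GrpObj T] [Smooth G.hom] [QuasiCompact G.hom] (u : R ⟶ G) [IsMonHom u] [Mono u]
    (hR : Red.IsTorus R)
    (hc : ∀ (X : Over (Spec (CommRingCat.of k))) (x : X ⟶ R) (g : X ⟶ G), (x ≫ u) * g = g * (x ≫ u))
    {i : T ⟶ G} (hT : Red.IsMaximalTorus i) : ∃ f : R ⟶ T, f ≫ i = u := by
  haveI := hT.1; haveI := hT.2.1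
  let θ : Spec (CommRingCat.of (AlgebraicClosure k)) ⟶ Spec (CommRingCat.of k) :=
    Spec.map (CommRingCat.ofHom (algebraMap k (AlgebraicClosure k)))
  let F := Over.pullback θ
  haveI : IsMonHom (F.map u) := Groth.L25.MonoClosed.isMonHom_pullbackMap _ _
  haveI : IsMonHom (F.map i) := Groth.L25.MonoClosed.isMonHom_pullbackMap _ _
  haveI : Mono (F.map u) := Functor.map_mono _ _
  haveI : Mono (F.map i) := Functor.map_mono _ _
  haveI : Smooth (Red.bc θ G).hom := inferInstanceAs (Smooth (pullback.snd G.hom θ))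
  haveI : QuasiCompact (Red.bc θ G).hom := inferInstanceAs (QuasiCompact (pullback.snd G.hom θ))
  have hcK : ∀ (X : Over _) (x : X ⟶ Red.bc θ R) (g : X ⟶ Red.bc θ G), (x ≫ F.map u) * g = g * (x ≫ F.map u) := by
    intro X x g
    apply Groth.L25.CentralLift.toBase_injective
    rw [Groth.L25.NilAction.toBase_mul, Groth.L25.NilAction.toBase_mul, Groth.L25.Locus.toBase_map]
    exact hc _ _ _
  obtain ⟨f, hf⟩ := exists_factor_of_central_algClosed (F.map u) (Groth.L25.Locus.isTorus_bc hR θ) hcK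
    (Groth.L08.Borel.isMaxTorus_of_isMaximalTorus (Groth.L08.Borel.isMaximalTorus_bc hT θ))
  let pr : Limits.pullback u i ⟶ R := pullback.fst u i
  haveI : Mono pr := inferInstanceAs (Mono (pullback.fst u i))
  haveI : Mono (F.map pr) := Functor.map_mono _ _
  haveI : IsSplitEpi (F.map pr) := IsSplitEpi.mk'
    ⟨pullback.lift (𝟙 _) f (by rw [Category.id_comp, hf]) ≫ (PreservesPullback.iso F u i).inv, by
      rw [Category.assoc, PreservesPullback.iso_inv_fst, pullback.lift_fst]⟩
  haveI : IsIso (F.map pr) := isIso_of_mono_of_isSplitEpi _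
  haveI : IsIso pr := Groth.L08.Borel.isIso_of_bc_field θ pr
  exact ⟨inv pr ≫ pullback.snd u i, by rw [Category.assoc, ← pullback.condition, IsIso.inv_hom_id_assoc]⟩

end Groth.L24.TorusLift
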