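import Groth.Agent.L25.TorLift.Main
import Groth.Agent.L25.TorLift.Central
import Groth.Agent.L25.TorLift.TorusCov
import Groth.Agent.L25.HomSmooth.Main
import Groth.Agent.L25.Bridge.Lift
import Groth.Agent.L08.Borel.MaxTorusDesc
import Groth.Agent.L08.Borel.MaxTorusNonsmooth

/-!
# Tori of smooth groups lift along nilpotent ideals
-/

set_option autoImplicit false
set_option backward.isDefEq.respectTransparency false
set_option backward.isDefEq.respectTransparency.types false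
set_option linter.style.haveILetI false

universe u

open CategoryTheory CategoryTheory.Limits MonoidalCategory CartesianMonoidalCategory MonObj GrpObj AlgebraicGeometry
open Groth.L25.TorLift (bi red)

noncomputable section

namespace Groth.L24.TorusLift

variable {A : Type u} [CommRing A] {J : Ideal A}

/-- a homomorphism of reductions as a family over the closed subscheme -/
theorem exists_hom_lift {H G : Over (Spec (CommRingCat.of A))} [GrpObj H] [GrpObj G] [Smooth G.hom]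
    (hJ : IsNilpotent J) (hH : SGA3x.IsMultTypeFT H) (u₀ : Red.bc (bi J) H ⟶ Red.bc (bi J) G) [IsMonHom u₀] :
    ∃ u : H ⟶ G, IsMonHom u ∧ red J u = u₀ := by
  let Z : Over (Spec (CommRingCat.of A)) := Groth.L25.Cocycle.Z J
  let c : ∀ {Y : Over (Spec (CommRingCat.of A))} (p : Y ⟶ Z),
      Y ⟶ Over.mk ((Over.mk p.left : Over (Spec (CommRingCat.of (A ⧸ J)))).hom ≫ bi J) := fun {Y} p =>
    Over.homMk (𝟙 _) (by
      show 𝟙 Y.left ≫ p.left ≫ bi J = Y.hom
      rw [Category.id_comp]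
      exact Over.w p)
  let c' : ∀ {Y : Over (Spec (CommRingCat.of A))} (p : Y ⟶ Z),
      Over.mk ((Over.mk p.left : Over (Spec (CommRingCat.of (A ⧸ J)))).hom ≫ bi J) ⟶ Y := fun {Y} p =>
    Over.homMk (𝟙 _) (by
      show 𝟙 Y.left ≫ Y.hom = p.left ≫ bi J
      rw [Category.id_comp]
      exact (Over.w p).symm)
  have hcc : ∀ {Y : Over (Spec (CommRingCat.of A))} (p : Y ⟶ Z), c p ≫ c' p = 𝟙 Y := fun p =>
    Over.OverMorphism.ext (Category.id_comp _)
  let W : Over (Spec (CommRingCat.of A)) := H ⊗ Z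
  let f₀ : H ⊗ Z ⟶ G := c (snd H Z) ≫
    Groth.L25.NilAction.toBase (bi J) (Groth.L25.NilAction.ofBase (bi J) (c' (snd H Z) ≫ fst H Z) ≫ u₀)
  have hf₀ : ∀ {Y : Over (Spec (CommRingCat.of A))} (p : Y ⟶ Z) (a : Y ⟶ H), lift a p ≫ f₀ = c p ≫
      Groth.L25.NilAction.toBase (bi J) (Groth.L25.NilAction.ofBase (bi J) (c' p ≫ a) ≫ u₀) := by
    intro Y p a
    let q : (Over.mk p.left : Over (Spec (CommRingCat.of (A ⧸ J)))) ⟶ Over.mk (snd H Z).left :=
      Over.homMk (lift a p).left (congrArg CommaMorphism.left (lift_snd a p))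
    have e : Groth.L25.NilAction.ofBase (bi J) (c' p ≫ a) =
        q ≫ Groth.L25.NilAction.ofBase (bi J) (c' (snd H Z) ≫ fst H Z) := by
      apply Over.OverMorphism.ext
      apply pullback.hom_ext
      · simp only [Over.comp_left, Groth.L25.NilAction.ofBase, Over.homMk_left, Category.assoc, pullback.lift_fst, q, c',
          Category.id_comp]
        exact congrArg CommaMorphism.left (lift_fst a p).symm
      · simp only [Over.comp_left, Groth.L25.NilAction.ofBase, Over.homMk_left, Category.assoc, pullback.lift_snd, q]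
        exact congrArg CommaMorphism.left (lift_snd a p).symm
    rw [e]
    apply Over.OverMorphism.ext
    simp [f₀, c, q, Groth.L25.NilAction.toBase]
  have hmul : Groth.L25.HomSmooth.MulOn f₀ := by
    intro Y p a b
    rw [hf₀, hf₀, hf₀, MonObj.comp_mul, Groth.L25.Locus.ofBase_mul, MonObj.mul_comp, Groth.L25.NilAction.toBase_mul,
      MonObj.comp_mul]
  obtain ⟨u, hu, hu₀⟩ := Groth.L25.HomSmooth.exists_hom_lift_smooth (Groth.L25.Locus.locally_of_multTypeFT hH) hJ
    f₀ hmul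
  refine ⟨u, hu, ?_⟩
  let Y : Over (Spec (CommRingCat.of A)) := Over.mk ((Red.bc (bi J) H).hom ≫ bi J)
  let p : Y ⟶ Z := Over.homMk (Red.bc (bi J) H).hom rfl
  let a : Y ⟶ H := Groth.L25.NilAction.toBase (bi J) (𝟙 (Red.bc (bi J) H))
  have e1 : a ≫ u = lift a p ≫ f₀ :=
    (congrArg (· ≫ u) (lift_fst a p)).symm.trans ((Category.assoc _ _ _).trans (congrArg (lift a p ≫ ·) hu₀))
  rw [hf₀] at e1
  apply Groth.L25.CentralLift.toBase_injective
  have e2 : Groth.L25.NilAction.toBase (bi J) (red J u) = a ≫ u := by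
    rw [← Groth.L25.Locus.toBase_map, Category.id_comp]
  rw [e2, e1]
  apply Over.OverMorphism.ext
  have e3 : Groth.L25.NilAction.ofBase (bi J) (c' p ≫ a) = (𝟙 (Red.bc (bi J) H)) := by
    rw [← Groth.L25.NilAction.ofBase_toBase (bi J) (𝟙 (Red.bc (bi J) H))]
    apply Over.OverMorphism.ext
    apply pullback.hom_ext <;> simp [Groth.L25.NilAction.ofBase, Groth.L25.NilAction.toBase, c', a, p, Y]
  rw [e3]
  show 𝟙 _ ≫ (𝟙 (Red.bc (bi J) H).left ≫ u₀.left) ≫ pullback.fst G.hom (bi J) = u₀.left ≫ pullback.fst G.hom (bi J)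
  simp only [Category.id_comp]

/-- a subtorus of the reduction lifts -/
theorem exists_torus_lift (hJ : IsNilpotent J) (G : Over (Spec (CommRingCat.of A))) [GrpObj G] [Smooth G.hom]
    {T₀ : Over (Spec (CommRingCat.of (A ⧸ J)))} [GrpObj T₀] (j₀ : T₀ ⟶ Red.bc (bi J) G) [IsMonHom j₀] [Mono j₀]
    (ht : Red.IsTorus T₀) :
    ∃ (T : Over (Spec (CommRingCat.of A))) (_ : GrpObj T) (j : T ⟶ G) (e : Red.bc (bi J) T ≅ T₀),
      IsMonHom j ∧ Mono j ∧ Red.IsTorus T ∧ IsMonHom e.hom ∧ e.hom ≫ j₀ = red J j := by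
  have hm₀ := Groth.L25.Locus.isMultTypeFT_of_isTorus ht
  haveI := Groth.L25.TrivLocus.lft_of_multTypeFT hm₀
  obtain ⟨T, gT, hT, -, ⟨e₀⟩⟩ := Groth.L25.Bridge.exists_group_lift hJ T₀ (Groth.L25.Bridge.locally_of_ft hm₀)
  have hnil : ∀ x ∈ J, IsNilpotent x := fun x hx => by
    obtain ⟨n, hn⟩ := hJ
    refine ⟨n, ?_⟩
    have := Ideal.pow_mem_pow hx n
    rwa [hn, Ideal.zero_eq_bot, Ideal.mem_bot] at this
  have hTt : Red.IsTorus T := Groth.L25.TorLift.isTorus_of_red hnil hT (Groth.L25.TorLift.isTorus_of_iso e₀.symm ht)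
  let e : Red.bc (bi J) T ≅ T₀ := (Grp.forget _).mapIso e₀
  haveI : IsMonHom e.hom := e₀.hom.hom.isMonHom_hom
  obtain ⟨j, hj, hred⟩ := exists_hom_lift hJ hT (e.hom ≫ j₀)
  haveI := Groth.L25.TrivLocus.lft_of_multTypeFT hT
  haveI : Mono (red J j) := by rw [hred]; infer_instance
  exact ⟨T, gT, j, e, hj, Groth.L25.TorLift.mono_of_red hJ j, hTt, inferInstance, hred.symm⟩

/-- a maximal torus of the reduction lifts to a maximal torus -/
theorem exists_maximalTorus_lift (hJ : IsNilpotent J) (G : Over (Spec (CommRingCat.of A))) [GrpObj G] [Smooth G.hom]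
    {T₀ : Over (Spec (CommRingCat.of (A ⧸ J)))} [GrpObj T₀] {j₀ : T₀ ⟶ Red.bc (bi J) G}
    (h₀ : Red.IsMaximalTorus j₀) :
    ∃ (T : Over (Spec (CommRingCat.of A))) (_ : GrpObj T) (j : T ⟶ G) (e : Red.bc (bi J) T ≅ T₀),
      Red.IsMaximalTorus j ∧ IsMonHom e.hom ∧ e.hom ≫ j₀ = red J j := by
  haveI := h₀.1; haveI := h₀.2.1
  obtain ⟨T, gT, j, e, hj, hjm, hT, he, hej⟩ := exists_torus_lift hJ G j₀ h₀.2.2.1
  haveI := hj; haveI := hjm; haveI := he
  haveI : Surjective (bi J) := Groth.L25.CentralLift.surjective_of_nil J fun x hx => by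
    obtain ⟨n, hn⟩ := hJ
    refine ⟨n, ?_⟩
    have := Ideal.pow_mem_pow hx n
    rwa [hn, Ideal.zero_eq_bot, Ideal.mem_bot] at this
  refine ⟨T, gT, j, e, Groth.L08.Borel.isMaximalTorus_of_bc hT (bi J) ?_, he, hej⟩
  show Red.IsMaximalTorus (red J j)
  rw [← hej]
  exact Groth.L08.Borel.isMaximalTorus_iso_comp h₀ e

end Groth.L24.TorusLift
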