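import Groth.Agent.L25.Artinian.Reduce
import Groth.Agent.L25.Bridge.TorsionLift
import Mathlib.AlgebraicGeometry.Morphisms.Separated

/-!
# Groups over Artinian local rings are separated
-/

set_option autoImplicit false
set_option backward.isDefEq.respectTransparency false
set_option backward.isDefEq.respectTransparency.types false
set_option linter.style.haveILetI false

universe u

open CategoryTheory CategoryTheory.Limits MonoidalCategory CartesianMonoidalCategory MonObj GrpObj AlgebraicGeometry

noncomputable section

namespace Groth.L24.TorusLift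

variable {A : Type u} [CommRing A]

theorem isSeparated_artinian [IsArtinianRing A] [IsLocalRing A] (G : Over (Spec (CommRingCat.of A))) [GrpObj G] :
    IsSeparated G.hom := by
  haveI : IsImmersion η[G].left := by
    haveI : IsImmersion (η[G].left ≫ G.hom) := by
      rw [Over.w η[G]]; exact (inferInstanceAs (IsImmersion (𝟙 (Spec (CommRingCat.of A)))))
    exact IsImmersion.of_comp η[G].left G.hom
  haveI : IsMonHom η[G] := Groth.L25.Bridge.isMonHom_of_mul _ fun X a b => by
    rw [toUnit_unique (a * b) (toUnit X), toUnit_unique a (toUnit X), toUnit_unique b (toUnit X), ← Hom.one_def,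
      _root_.mul_one]
  haveI : IsClosedImmersion η[G].left := Groth.L25.Artinian.isClosedImmersion_subgroup G _ η[G]
  let m : G ⊗ G ⟶ G := (fst G G)⁻¹ * snd G G
  let P : Over (Spec (CommRingCat.of A)) := Over.mk (pullback.fst m.left η[G].left ≫ (G ⊗ G).hom)
  let i : P ⟶ G ⊗ G := Over.homMk (pullback.fst m.left η[G].left) rfl
  have him : i ≫ m = toUnit P ≫ η[G] := by
    ext1
    show pullback.fst m.left η[G].left ≫ m.left = (toUnit P).left ≫ η[G].left
    rw [pullback.condition]
    congr 1
    show _ = pullback.fst m.left η[G].left ≫ (G ⊗ G).hom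
    rw [← Over.w m, pullback.condition_assoc, Over.w η[G]]
    exact (Category.comp_id _).symm
  have heq : i ≫ snd G G = i ≫ fst G G := by
    rw [← Hom.one_def, MonObj.comp_mul, GrpObj.comp_inv, inv_mul_eq_one] at him
    exact him.symm
  let δ : G ⟶ G ⊗ G := lift (𝟙 G) (𝟙 G)
  have hδm : δ ≫ m = toUnit G ≫ η[G] := by
    rw [MonObj.comp_mul, GrpObj.comp_inv, lift_fst, lift_snd, inv_mul_cancel, Hom.one_def]
  let l : G.left ⟶ pullback m.left η[G].left :=
    pullback.lift δ.left (toUnit G).left (by rw [← Over.comp_left, hδm, Over.comp_left])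
  have hl : l ≫ pullback.fst _ _ = δ.left := pullback.lift_fst _ _ _
  have hiso : IsIso l := by
    refine ⟨(i ≫ fst G G).left, ?_, ?_⟩
    · show l ≫ pullback.fst _ _ ≫ (fst G G).left = _
      rw [reassoc_of% hl, ← Over.comp_left, lift_fst, Over.id_left]
    · have h1 : (i ≫ fst G G) ≫ δ = i := by
        apply CartesianMonoidalCategory.hom_ext
        · simp [δ]
        · simp [δ, heq]
      apply pullback.hom_ext
      · rw [Category.assoc, hl, ← Over.comp_left, h1, Category.id_comp]
        rfl
      · rw [Category.id_comp, ← cancel_mono η[G].left, Category.assoc, Category.assoc, ← pullback.condition,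
          reassoc_of% hl, ← Over.comp_left, ← Over.comp_left, ← Category.assoc, h1, him]
        exact (congrArg (fun φ => φ.left) him).symm
  have hc : IsClosedImmersion δ.left := by
    rw [← hl]
    infer_instance
  refine ⟨?_⟩
  have : pullback.diagonal G.hom = δ.left := by
    apply pullback.hom_ext
    · rw [pullback.diagonal_fst]
      exact (congrArg (fun φ => φ.left) (lift_fst (𝟙 G) (𝟙 G))).symm
    · rw [pullback.diagonal_snd]
      exact (congrArg (fun φ => φ.left) (lift_snd (𝟙 G) (𝟙 G))).symm
  rw [this]
  exact hc

end Groth.L24.TorusLift
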